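import Mathlib

open Polynomial Finset

namespace Groth.Agent.H5.KAS
universe u

section Univ
variable (p : ℕ) [hp : Fact p.Prime]

abbrev U := AdjoinRoot (cyclotomic p ℤ)

instance : IsDomain (U p) :=
  AdjoinRoot.isDomain_of_prime
    (UniqueFactorizationMonoid.irreducible_iff_prime.mp (cyclotomic.irreducible hp.out.pos))

noncomputable def zt : U p := AdjoinRoot.root _
noncomputable def w : U p := 1 - zt p

theorem of_injective : Function.Injective (AdjoinRoot.of (cyclotomic p ℤ)) := by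
  apply AdjoinRoot.of.injective_of_degree_ne_zero
  rw [degree_cyclotomic, Nat.totient_prime hp.out]
  have := hp.out.two_le
  intro h
  have h2 : ((p - 1 : ℕ) : WithBot ℕ) = ((0 : ℕ) : WithBot ℕ) := h
  rw [Nat.cast_inj] at h2
  omega

instance : CharZero (U p) := by
  refine ⟨fun a b h => ?_⟩
  have h1 : AdjoinRoot.of (cyclotomic p ℤ) (a : ℤ) = AdjoinRoot.of (cyclotomic p ℤ) (b : ℤ) := by
    simpa using h
  exact_mod_cast of_injective p h1

theorem isPrimitiveRoot : IsPrimitiveRoot (zt p) p := by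
  haveI : NeZero ((p : ℕ) : U p) := ⟨by exact_mod_cast hp.out.ne_zero⟩
  rw [← isRoot_cyclotomic_iff]
  have h1 : cyclotomic p (U p) = (cyclotomic p ℤ).map (AdjoinRoot.of (cyclotomic p ℤ)) :=
    (map_cyclotomic_int p (U p)).symm.trans (by congr 1)
  rw [h1]
  exact AdjoinRoot.isRoot_root _

noncomputable def g (k : ℕ) : U p := ∑ j ∈ range k, (zt p) ^ j

noncomputable def uu : U p := ∏ k ∈ range (p - 1), g p (k + 1)

theorem p_eq : (p : U p) = (w p) ^ (p - 1) * uu p := by
  have hμ : IsPrimitiveRoot (zt p) ((p - 1) + 1) := by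
    rw [Nat.sub_add_cancel hp.out.one_le]; exact isPrimitiveRoot p
  have h := hμ.prod_one_sub_pow_eq_order
  have h2 : (((p - 1 : ℕ) : U p) + 1) = (p : U p) := by
    have : ((p - 1 : ℕ) + 1 : ℕ) = p := Nat.sub_add_cancel hp.out.one_le
    exact_mod_cast congrArg (Nat.cast (R := U p)) this
  rw [h2] at h
  rw [← h, uu]
  have : ∀ k ∈ range (p - 1), (1 - (zt p) ^ (k + 1)) = w p * g p (k + 1) := by
    intro k _
    rw [w, g, mul_neg_geom_sum]
  rw [prod_congr rfl this, prod_mul_distrib, prod_const, card_range]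

theorem w_ne_zero : w p ≠ 0 := by
  intro h
  have h1 := p_eq p
  rw [h, zero_pow (by have := hp.out.two_le; omega), zero_mul] at h1
  exact hp.out.ne_zero (by exact_mod_cast h1)

theorem p_mem : (p : U p) ∈ Ideal.span {w p} := by
  rw [p_eq p, Ideal.mem_span_singleton]
  have : p - 1 = (p - 2) + 1 := by have := hp.out.two_le; omega
  rw [this, pow_succ]
  exact ⟨(w p) ^ (p - 2) * uu p, by ring⟩

theorem uu_add_one_mem : uu p + 1 ∈ Ideal.span {w p} := by
  rw [← Ideal.Quotient.eq_zero_iff_mem]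
  set mk := Ideal.Quotient.mk (Ideal.span {w p}) with hmk
  have hz : mk (zt p) = 1 := by
    have : mk (1 - zt p) = 0 := Ideal.Quotient.eq_zero_iff_mem.mpr (Ideal.mem_span_singleton_self _)
    rw [map_sub, map_one, sub_eq_zero] at this
    exact this.symm
  have hg : ∀ k, mk (g p k) = (k : U p ⧸ Ideal.span {w p}) := by
    intro k
    rw [g, map_sum]
    simp [hz]
  have hu : mk (uu p) = (((p - 1).factorial : ℕ) : U p ⧸ Ideal.span {w p}) := by
    rw [uu, map_prod]
    simp only [hg]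
    rw [← Finset.prod_range_add_one_eq_factorial]
    push_cast
    rfl
  have hpz : ((p : ℕ) : U p ⧸ Ideal.span {w p}) = 0 := by
    have := Ideal.Quotient.eq_zero_iff_mem.mpr (p_mem p)
    simpa using this
  have hwil : ((p - 1).factorial : ZMod p) = -1 := ZMod.wilsons_lemma p
  have hdvd : (p : ℤ) ∣ ((p - 1).factorial : ℤ) + 1 := by
    rw [← ZMod.intCast_zmod_eq_zero_iff_dvd]
    push_cast
    rw [hwil]; ring
  obtain ⟨m, hm⟩ := hdvd
  rw [map_add, map_one, hu]
  have : (((p - 1).factorial : ℤ) + 1 : U p ⧸ Ideal.span {w p}) = ((p : ℤ) * m : ℤ) := by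
    rw [← hm]; push_cast; rfl
  push_cast at this
  rw [this, hpz, zero_mul]

noncomputable def c (i : ℕ) : U p := ((p.choose i / p : ℕ) : U p) * uu p * (w p) ^ (i - 1)

noncomputable def a (i : ℕ) : U p := c p i + if i = 1 then 1 else 0

noncomputable def P₀ : (U p)[X] := X ^ p + ∑ i ∈ Ioo 0 p, C (c p i) * X ^ i

theorem w_pow_mul_c {i : ℕ} (hi : i ∈ Ioo 0 p) :
    (w p) ^ p * c p i = (w p) ^ i * (p.choose i : U p) := by
  rw [mem_Ioo] at hi
  have hdvd : p ∣ p.choose i := hp.out.dvd_choose_self (by omega) hi.2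
  have h1 : ((p.choose i / p : ℕ) : U p) * (p : U p) = (p.choose i : U p) := by
    exact_mod_cast congrArg (Nat.cast (R := U p)) (Nat.div_mul_cancel hdvd)
  have hw : (w p) ^ p = (w p) ^ (p - 1) * w p := by
    rw [← pow_succ, Nat.sub_add_cancel hp.out.one_le]
  have hwi : (w p) ^ i = (w p) ^ (i - 1) * w p := by
    rw [← pow_succ, Nat.sub_add_cancel hi.1]
  rw [c, hw, hwi, ← h1, p_eq p]
  ring

theorem P₀_spec1 : C ((w p) ^ p) * P₀ p = (1 + C (w p) * X) ^ p - 1 := by
  have hIoo : Ioo 0 p = Ico 1 p := by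
    ext i; simp only [mem_Ioo, mem_Ico]; omega
  rw [add_comm (1 : (U p)[X]), add_pow, sum_range_succ, range_eq_Ico,
    sum_eq_sum_Ico_succ_bot hp.out.pos]
  simp only [one_pow, mul_one, pow_zero, Nat.choose_zero_right, Nat.cast_one, Nat.choose_self,
    Nat.sub_self, zero_add]
  rw [P₀, mul_add, mul_sum, hIoo]
  have : ∀ i ∈ Ico 1 p, C ((w p) ^ p) * (C (c p i) * X ^ i) =
      (C (w p) * X) ^ i * (p.choose i : (U p)[X]) := by
    intro i hi
    rw [← hIoo] at hi
    rw [← mul_assoc, ← C_mul, w_pow_mul_c p hi, mul_pow, C_mul, C_pow]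
    rw [← C_eq_natCast]
    ring
  rw [sum_congr rfl this, mul_pow, C_pow]
  ring

theorem P₀_spec2 : P₀ p = X ^ p - X + ∑ i ∈ Ioo 0 p, C (a p i) * X ^ i := by
  have h1 : 1 ∈ Ioo 0 p := by
    rw [mem_Ioo]; exact ⟨Nat.one_pos, hp.out.one_lt⟩
  have : ∀ i ∈ Ioo 0 p, C (a p i) * X ^ i =
      C (c p i) * X ^ i + (if i = 1 then (X : (U p)[X]) else 0) := by
    intro i _
    rw [a]
    split_ifs with h
    · subst h; rw [C_add, add_mul, C_1, one_mul, pow_one]
    · rw [add_zero, add_zero]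
  rw [sum_congr rfl this, sum_add_distrib, sum_ite_eq' _ 1, if_pos h1, P₀]
  ring

theorem a_mem (i : ℕ) : a p i ∈ Ideal.span {w p} := by
  rw [a]
  by_cases h1 : i = 1
  · subst h1
    rw [if_pos rfl, c, Nat.choose_one_right, Nat.div_self hp.out.pos]
    simpa using uu_add_one_mem p
  · rw [if_neg h1, add_zero, c]
    rcases Nat.eq_zero_or_pos i with h0 | h0
    · subst h0
      rw [Nat.choose_zero_right, Nat.div_eq_of_lt hp.out.one_lt]
      simp
    · have : i - 1 = (i - 2) + 1 := by omega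
      rw [this, pow_succ, Ideal.mem_span_singleton]
      exact ⟨((p.choose i / p : ℕ) : U p) * uu p * (w p) ^ (i - 2), by ring⟩

/-- the functional equation in the universal situation -/
theorem P₀_funeq :
    let T := MvPolynomial (Fin 2) (U p)
    let ι : U p →+* T := MvPolynomial.C
    let x : T := MvPolynomial.X 0
    let y : T := MvPolynomial.X 1
    eval₂ ι (x + y + ι (w p) * x * y) (P₀ p) =
      eval₂ ι x (P₀ p) + eval₂ ι y (P₀ p) + ι ((w p) ^ p) * eval₂ ι x (P₀ p) * eval₂ ι y (P₀ p) := by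
  intro T ι x y
  have key : ∀ t : T, ι ((w p) ^ p) * eval₂ ι t (P₀ p) = (1 + ι (w p) * t) ^ p - 1 := by
    intro t
    have := congrArg (eval₂ ι t) (P₀_spec1 p)
    simpa [eval₂_mul, eval₂_C, eval₂_sub, eval₂_pow, eval₂_add, eval₂_X, eval₂_one] using this
  have hW : ι ((w p) ^ p) ≠ 0 := by
    intro h
    have : (w p) ^ p = 0 := MvPolynomial.C_injective _ _ (by rw [h]; exact (map_zero _).symm)
    exact pow_ne_zero _ (w_ne_zero p) this
  apply mul_left_cancel₀ hW
  have e1 := key x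
  have e2 := key y
  have e3 := key (x + y + ι (w p) * x * y)
  rw [e3]
  have : ι ((w p) ^ p) * (eval₂ ι x (P₀ p) + eval₂ ι y (P₀ p) +
      ι ((w p) ^ p) * eval₂ ι x (P₀ p) * eval₂ ι y (P₀ p)) =
      (ι ((w p) ^ p) * eval₂ ι x (P₀ p)) + (ι ((w p) ^ p) * eval₂ ι y (P₀ p)) +
      (ι ((w p) ^ p) * eval₂ ι x (P₀ p)) * (ι ((w p) ^ p) * eval₂ ι y (P₀ p)) := by ring
  rw [this, e1, e2]
  have : (1 + ι (w p) * (x + y + ι (w p) * x * y)) = (1 + ι (w p) * x) * (1 + ι (w p) * y) := by ring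
  rw [this, mul_pow]
  ring

end Univ

theorem main (p : ℕ) (hp : p.Prime) (A : Type u) [CommRing A] (ζ : A)
    (hζ : aeval ζ (cyclotomic p ℤ) = 0) :
    ∃ P : A[X], C ((1 - ζ) ^ p) * P = (1 + C (1 - ζ) * X) ^ p - 1 ∧
      (∃ a : ℕ → A, (∀ i, a i ∈ Ideal.span {1 - ζ}) ∧
        P = X ^ p - X + (Finset.Ioo 0 p).sum (fun i => C (a i) * X ^ i)) ∧
      ∀ (S : Type u) [CommRing S] [Algebra A S] (z₁ z₂ : S),
        aeval (z₁ + z₂ + algebraMap A S (1 - ζ) * z₁ * z₂) P =
          aeval z₁ P + aeval z₂ P + algebraMap A S ((1 - ζ) ^ p) * aeval z₁ P * aeval z₂ P := by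
  haveI : Fact p.Prime := ⟨hp⟩
  have hζ' : eval₂ (Int.castRingHom A) ζ (cyclotomic p ℤ) = 0 := by
    rw [← hζ, aeval_def]; rfl
  let φ : U p →+* A := AdjoinRoot.lift (Int.castRingHom A) ζ hζ'
  have hφz : φ (zt p) = ζ := AdjoinRoot.lift_root hζ'
  have hφw : φ (w p) = 1 - ζ := by rw [w, map_sub, map_one, hφz]
  refine ⟨(P₀ p).map φ, ?_, ⟨fun i => φ (a p i), ?_, ?_⟩, ?_⟩
  · have := congrArg (Polynomial.map φ) (P₀_spec1 p)
    simpa [Polynomial.map_mul, Polynomial.map_pow, hφw] using this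
  · intro i
    show φ (a p i) ∈ Ideal.span {1 - ζ}
    have := a_mem p i
    rw [Ideal.mem_span_singleton] at this ⊢
    obtain ⟨b, hb⟩ := this
    exact ⟨φ b, by rw [hb, map_mul, hφw]⟩
  · have := congrArg (Polynomial.map φ) (P₀_spec2 p)
    simpa [Polynomial.map_sum, Polynomial.map_mul, Polynomial.map_pow] using this
  · intro S _ _ z₁ z₂
    have h := P₀_funeq p
    simp only at h
    let ψ : MvPolynomial (Fin 2) (U p) →+* S :=
      MvPolynomial.eval₂Hom ((algebraMap A S).comp φ) ![z₁, z₂]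
    have hψC : ψ.comp MvPolynomial.C = (algebraMap A S).comp φ :=
      RingHom.ext fun r => by simp [ψ]
    have hψ0 : ψ (MvPolynomial.X 0) = z₁ := by simp [ψ]
    have hψ1 : ψ (MvPolynomial.X 1) = z₂ := by simp [ψ]
    have hψC' : ∀ r, ψ (MvPolynomial.C r) = algebraMap A S (φ r) := fun r => by
      simpa using RingHom.congr_fun hψC r
    have := congrArg ψ h
    simp only [map_add, map_mul, hom_eval₂, hψC, hψ0, hψ1, hψC'] at this
    simp only [aeval_def, eval₂_map]
    rw [← hφw, ← map_pow]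
    exact this

end Groth.Agent.H5.KAS
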